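import Groth.Agent.SmoothCrit.Sch
import Groth.Agent.H23.MulEtale
import Groth.Agent.OmegaUniv.ToSectIso
import Groth.Agent.QCoh.LocFree
import Groth.Agent.S2788
import Groth.Agent.S5018
import Groth.Agent.S1488
import Mathlib.AlgebraicGeometry.Morphisms.Smooth

/-! Locally free differentials detect smoothness between smooth varieties. -/

open CategoryTheory AlgebraicGeometry TensorProduct

universe u

namespace Groth.Agent.SmoothCrit

variable {X S : Scheme.{u}}

/-- Differentials of the local rings from a chart with free differentials. -/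
theorem free_stalk (p : X ⟶ S) {U : S.Opens} (hU : IsAffineOpen U) {V : X.Opens} (hV : IsAffineOpen V)
    (e : V ≤ p ⁻¹ᵁ U) {x : X} (hx : x ∈ V) (n : ℕ)
    (h : letI := (p.appLE U V e).hom.toAlgebra
      Module.Free Γ(X, V) Ω[Γ(X, V)⁄Γ(S, U)] ∧ Module.Finite Γ(X, V) Ω[Γ(X, V)⁄Γ(S, U)] ∧
        Module.finrank Γ(X, V) Ω[Γ(X, V)⁄Γ(S, U)] = n) :
    letI := (p.stalkMap x).hom.toAlgebra
    Module.Free (X.presheaf.stalk x) Ω[X.presheaf.stalk x⁄S.presheaf.stalk (p x)] ∧
      Module.Finite (X.presheaf.stalk x) Ω[X.presheaf.stalk x⁄S.presheaf.stalk (p x)] ∧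
      Module.finrank (X.presheaf.stalk x) Ω[X.presheaf.stalk x⁄S.presheaf.stalk (p x)] = n := by
  letI := (p.appLE U V e).hom.toAlgebra
  letI := (X.presheaf.germ V x hx).hom.toAlgebra
  letI := (p.stalkMap x).hom.toAlgebra
  obtain ⟨hf, hfin, hn⟩ := h
  haveI : Nonempty V := ⟨⟨x, hx⟩⟩
  obtain ⟨E⟩ := H23.MulEtale.nonempty_equiv p hU hV e hx
  exact ⟨Module.Free.of_equiv E, Module.Finite.equiv E, by rw [← E.finrank_eq, Module.finrank_baseChange, hn]⟩

/-- Smooth of relative dimension `n` gives free differentials of rank `n` on local rings. -/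
theorem free_stalk_of_smooth (p : X ⟶ S) (n : ℕ) [SmoothOfRelativeDimension n p] (x : X) :
    letI := (p.stalkMap x).hom.toAlgebra
    Module.Free (X.presheaf.stalk x) Ω[X.presheaf.stalk x⁄S.presheaf.stalk (p x)] ∧
      Module.Finite (X.presheaf.stalk x) Ω[X.presheaf.stalk x⁄S.presheaf.stalk (p x)] ∧
      Module.finrank (X.presheaf.stalk x) Ω[X.presheaf.stalk x⁄S.presheaf.stalk (p x)] = n := by
  obtain ⟨U, hU, V, hV, hx, e, hs⟩ := SmoothOfRelativeDimension.exists_isStandardSmoothOfRelativeDimension (n := n) (f := p) x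
  refine free_stalk p hU hV e hx n ?_
  letI := (p.appLE U V e).hom.toAlgebra
  haveI : Algebra.IsStandardSmoothOfRelativeDimension n Γ(S, U) Γ(X, V) := hs
  haveI : Algebra.IsStandardSmooth Γ(S, U) Γ(X, V) := Algebra.IsStandardSmoothOfRelativeDimension.isStandardSmooth n
  haveI : Nonempty V := ⟨⟨x, hx⟩⟩
  exact ⟨inferInstance, inferInstance,
    Module.finrank_eq_of_rank_eq (Algebra.IsStandardSmoothOfRelativeDimension.rank_kaehlerDifferential (R := Γ(S, U)) (S := Γ(X, V)) n)⟩

/-- A trivialisation of the sheaf of differentials gives free differentials on local rings. -/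
theorem free_stalk_of_restrict (p : X ⟶ S) [QuasiSeparated p] {U : X.Opens} {n : ℕ}
    (e : (Omega.sheaf p).restrict U.ι ≅ FlatMod.freeMod (U : Scheme.{u}) n) {x : X} (hxU : x ∈ U) :
    letI := (p.stalkMap x).hom.toAlgebra
    Module.Free (X.presheaf.stalk x) Ω[X.presheaf.stalk x⁄S.presheaf.stalk (p x)] ∧
      Module.Finite (X.presheaf.stalk x) Ω[X.presheaf.stalk x⁄S.presheaf.stalk (p x)] ∧
      Module.finrank (X.presheaf.stalk x) Ω[X.presheaf.stalk x⁄S.presheaf.stalk (p x)] = n := by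
  obtain ⟨W, hW, hxW, -⟩ := exists_isAffineOpen_mem_and_subset (x := p x) (U := ⊤) trivial
  obtain ⟨V, hV, hxV, hle⟩ := exists_isAffineOpen_mem_and_subset (x := x) (U := U ⊓ p ⁻¹ᵁ W) ⟨hxU, hxW⟩
  have eV : V ≤ p ⁻¹ᵁ W := le_trans hle inf_le_right
  refine free_stalk p hW hV eV hxV n ?_
  letI := (p.appLE W V eV).hom.toAlgebra
  haveI : Nonempty V := ⟨⟨x, hxV⟩⟩
  obtain ⟨l⟩ := QCoh.free_sections hV (le_trans hle inf_le_left) e
  let T : Ω[Γ(X, V)⁄Γ(S, W)] ≃ₗ[Γ(X, V)] Γ(Omega.sheaf p, V) :=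
    LinearEquiv.ofBijective (OmAff.toSect p W V eV).hom (OmegaUniv.toSect_bijective p hV hW eV)
  have b := (T.trans l).symm
  exact ⟨Module.Free.of_equiv b, Module.Finite.equiv b, by rw [← b.finrank_eq]; simp⟩

variable {k : Type u} [Field k] {Y : Scheme.{u}} (qX : X ⟶ Spec (CommRingCat.of k)) (qY : Y ⟶ Spec (CommRingCat.of k))
  [LocallyOfFiniteType qX] [LocallyOfFiniteType qY] [Smooth qX] [Smooth qY]
  (f : X ⟶ Y) (hf : f ≫ qY = qX)

omit [LocallyOfFiniteType qX] [LocallyOfFiniteType qY] in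
include hf in
/-- Differentials of the expected rank give smoothness at a point. -/
theorem formallySmooth_stalk (n dY : ℕ) [SmoothOfRelativeDimension dY qY] [SmoothOfRelativeDimension (dY + n) qX] (x : X)
    (h : letI := (f.stalkMap x).hom.toAlgebra
      Module.Free (X.presheaf.stalk x) Ω[X.presheaf.stalk x⁄Y.presheaf.stalk (f x)] ∧
      Module.Finite (X.presheaf.stalk x) Ω[X.presheaf.stalk x⁄Y.presheaf.stalk (f x)] ∧
      Module.finrank (X.presheaf.stalk x) Ω[X.presheaf.stalk x⁄Y.presheaf.stalk (f x)] = n) :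
    (f.stalkMap x).hom.FormallySmooth := by
  subst hf
  let K := (Spec (CommRingCat.of k)).presheaf.stalk (qY (f x))
  let R := Y.presheaf.stalk (f x)
  let T := X.presheaf.stalk x
  letI : Algebra R T := (f.stalkMap x).hom.toAlgebra
  letI : Algebra K R := (qY.stalkMap (f x)).hom.toAlgebra
  letI : Algebra K T := ((f ≫ qY).stalkMap x).hom.toAlgebra
  haveI : IsScalarTower K R T := IsScalarTower.of_algebraMap_eq' (by
    show ((f ≫ qY).stalkMap x).hom = (qY.stalkMap (f x) ≫ f.stalkMap x).hom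
    exact congrArg CommRingCat.Hom.hom (Scheme.Hom.stalkMap_comp f qY x))
  obtain ⟨hfreeR, hfinR, hrR⟩ := free_stalk_of_smooth qY dY (f x)
  obtain ⟨hfreeT, hfinT, hrT⟩ := free_stalk_of_smooth (f ≫ qY) (dY + n) x
  obtain ⟨hfree, hfin, hr⟩ := h
  haveI : Module.Free R Ω[R⁄K] := hfreeR
  haveI : Module.Finite R Ω[R⁄K] := hfinR
  haveI : Module.Free T Ω[T⁄K] := hfreeT
  haveI : Module.Finite T Ω[T⁄K] := hfinT
  haveI : Module.Free T Ω[T⁄R] := hfree
  haveI : Module.Finite T Ω[T⁄R] := hfin
  haveI : Algebra.FormallySmooth K T := by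
    have h1 : (f ≫ qY).smoothLocus = ⊤ := Scheme.Hom.smoothLocus_eq_top _
    have h2 : x ∈ (f ≫ qY).smoothLocus := h1 ▸ trivial
    exact h2
  let l := KaehlerDifferential.mapBaseChange K R T
  let π := KaehlerDifferential.map K R T T
  obtain ⟨σ, hσ⟩ := Module.projective_lifting_property π LinearMap.id (KaehlerDifferential.map_surjective K R T)
  have hex := KaehlerDifferential.exact_mapBaseChange_map K R T
  let Ψ : (T ⊗[R] Ω[R⁄K]) × Ω[T⁄R] →ₗ[T] Ω[T⁄K] := l.coprod σ
  have hΨ : Function.Surjective Ψ := fun w => by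
    obtain ⟨z, hz⟩ := (hex (w - σ (π w))).1 (by
      show π (w - σ (π w)) = 0
      rw [map_sub, show π (σ (π w)) = π w from LinearMap.congr_fun hσ (π w), sub_self])
    exact ⟨(z, π w), by show l z + σ (π w) = w; rw [show l z = w - σ (π w) from hz]; abel⟩
  have hbij : Function.Bijective Ψ := OrzechProperty.bijective_of_surjective_of_finrank_le Ψ hΨ (by
    rw [Module.finrank_prod, Module.finrank_baseChange]
    exact le_of_eq (by rw [hrR, hr]; exact hrT.symm))
  have hinj : Function.Injective l := fun a b hab => by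
    have := hbij.1 (show Ψ (a, 0) = Ψ (b, 0) by show l a + σ 0 = l b + σ 0; rw [hab])
    exact congrArg Prod.fst this
  haveI := S2788.h1_subsingleton_iff.2 hinj
  exact (⟨inferInstance, inferInstance⟩ : Algebra.FormallySmooth R T)

variable [IsAlgClosed k] [IrreducibleSpace X] [IrreducibleSpace Y]

omit [IsAlgClosed k] in
include hf in
/-- **Smoothness of relative dimension `n` via differentials.** -/
theorem smoothOfRelativeDimension_iff_omega [QuasiSeparated f] (n dY : ℕ)
    (hY : topologicalKrullDim Y = dY) (hX : topologicalKrullDim X = ((dY + n : ℕ) : WithBot ℕ∞)) :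
    SmoothOfRelativeDimension n f ↔ FlatMod.IsFinLocFreeOfRank n (Omega.sheaf f) := by
  constructor
  · intro _ x
    haveI : Smooth f := SmoothOfRelativeDimension.smooth n f
    obtain ⟨U, m, hxU, ⟨e⟩⟩ := S5018.result f ((S1488.result f).1 inferInstance).2 _ _ (OmegaUniv.isUniversal_dOmega f) x
    obtain rfl : n = m :=
      (free_stalk_of_smooth f n x).2.2.symm.trans (free_stalk_of_restrict f e hxU).2.2
    exact ⟨U, hxU, ⟨e⟩⟩
  · intro H
    haveI := smoothOfRelativeDimension_dim qY dY hY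
    haveI := smoothOfRelativeDimension_dim qX (dY + n) hX
    haveI : LocallyOfFiniteType (f ≫ qY) := by rw [hf]; infer_instance
    haveI : LocallyOfFiniteType f := locallyOfFiniteType_of_comp f qY
    haveI : IsLocallyNoetherian Y := LocallyOfFiniteType.isLocallyNoetherian qY
    haveI : LocallyOfFinitePresentation f := inferInstance
    rw [smoothOfRelativeDimension_iff qX qY f hf n dY hY hX, ← Scheme.Hom.smoothLocus_eq_top_iff, ← top_le_iff]
    intro x _
    obtain ⟨U, hxU, ⟨e⟩⟩ := H x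
    exact formallySmooth_stalk qX qY f hf n dY x (free_stalk_of_restrict f e hxU)

end Groth.Agent.SmoothCrit
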