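import Groth.Agent.SmoothCrit.Alg
import Groth.Agent.SmoothDim.Basic
import Groth.Agent.VarDim.Top
import Groth.Prelude.Def_FixPt
import Mathlib.AlgebraicGeometry.Morphisms.Smooth
import Mathlib.RingTheory.Smooth.Locus
import Mathlib.RingTheory.RingHom.Smooth
import Mathlib.RingTheory.Jacobson.Ring

/-! The tangent criterion of smoothness for morphisms of smooth varieties, and relative dimensions. -/

open CategoryTheory AlgebraicGeometry

universe u

namespace Groth.Agent.SmoothCrit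

variable {k : Type u} [Field k] {X Y : Scheme.{u}} (qX : X ⟶ Spec (CommRingCat.of k)) (qY : Y ⟶ Spec (CommRingCat.of k))

/-- The structure map on sections. -/
noncomputable def secAlg (U : X.Opens) : CommRingCat.of k ⟶ Γ(X, U) :=
  (Scheme.ΓSpecIso (CommRingCat.of k)).inv ≫ qX.appLE ⊤ U le_top

theorem finitePresentation_sec [LocallyOfFiniteType qX] {U : X.Opens} (hU : IsAffineOpen U) :
    letI := (secAlg qX U).hom.toAlgebra; Algebra.FinitePresentation k Γ(X, U) := by
  letI := (secAlg qX U).hom.toAlgebra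
  haveI : Algebra.FiniteType k Γ(X, U) := (qX.finiteType_appLE (isAffineOpen_top _) hU le_top).comp
    (RingHom.FiniteType.of_surjective _ (Scheme.ΓSpecIso (CommRingCat.of k)).symm.commRingCatIsoToRingEquiv.surjective)
  exact Algebra.FinitePresentation.of_finiteType.1 inferInstance

theorem smooth_sec [Smooth qX] {U : X.Opens} (hU : IsAffineOpen U) :
    letI := (secAlg qX U).hom.toAlgebra; Algebra.Smooth k Γ(X, U) := by
  letI := (secAlg qX U).hom.toAlgebra
  refine RingHom.smooth_algebraMap.1 ?_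
  exact RingHom.Smooth.respectsIso.2 _ (Scheme.ΓSpecIso (CommRingCat.of k)).symm.commRingCatIsoToRingEquiv
    (qX.smooth_appLE (isAffineOpen_top _) hU le_top)

variable (f : X ⟶ Y) (hf : f ≫ qY = qX)

include hf in
theorem sec_comp {W : Y.Opens} {U : X.Opens} (e : U ≤ f ⁻¹ᵁ W) :
    secAlg qY W ≫ f.appLE W U e = secAlg qX U := by
  simp only [secAlg, Category.assoc, Scheme.Hom.appLE_comp_appLE, hf]

/-- The cotangent map is injective iff functions vanishing to second order upstairs do so downstairs. -/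
theorem injective_cotangentMapAt_iff {W : Y.Opens} (hW : IsAffineOpen W) {U : X.Opens} (hU : IsAffineOpen U)
    (e : U ≤ f ⁻¹ᵁ W) (x : X) (hxU : x ∈ U) (hm : (hU.primeIdealOf ⟨x, hxU⟩).asIdeal.IsMaximal)
    (hn : (hW.primeIdealOf ⟨f x, e hxU⟩).asIdeal.IsMaximal) :
    Function.Injective (FixPt.cotangentMapAt f x (f.base x) rfl) ↔
      ∀ b ∈ (hW.primeIdealOf ⟨f x, e hxU⟩).asIdeal, f.appLE W U e b ∈ (hU.primeIdealOf ⟨x, hxU⟩).asIdeal ^ 2 →
        b ∈ (hW.primeIdealOf ⟨f x, e hxU⟩).asIdeal ^ 2 := by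
  set m := (hU.primeIdealOf ⟨x, hxU⟩).asIdeal
  set n := (hW.primeIdealOf ⟨f x, e hxU⟩).asIdeal
  letI := TopCat.Presheaf.algebra_section_stalk X.presheaf (U := U) ⟨x, hxU⟩
  haveI : IsLocalization.AtPrime (X.presheaf.stalk x) m := hU.isLocalization_stalk ⟨x, hxU⟩
  letI := TopCat.Presheaf.algebra_section_stalk Y.presheaf (U := W) ⟨f x, e hxU⟩
  haveI : IsLocalization.AtPrime (Y.presheaf.stalk (f x)) n := hW.isLocalization_stalk ⟨f x, e hxU⟩
  have hst : ∀ b, FixPt.stalkMapAt f x (f x) rfl (algebraMap Γ(Y, W) _ b) =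
      algebraMap Γ(X, U) (X.presheaf.stalk x) (f.appLE W U e b) := fun b => by
    show f.stalkMap x ((Y.presheaf.stalkCongr (Inseparable.of_eq rfl)).inv (Y.presheaf.germ W (f x) (e hxU) b)) =
      X.presheaf.germ U x hxU (f.appLE W U e b)
    have hid : (Y.presheaf.stalkCongr (Inseparable.of_eq (rfl : f x = f x))).inv (Y.presheaf.germ W (f x) (e hxU) b) =
        Y.presheaf.germ W (f x) (e hxU) b := by
      simp [TopCat.Presheaf.stalkCongr]
    rw [hid, Scheme.Hom.germ_stalkMap_apply, Scheme.Hom.appLE, CommRingCat.comp_apply]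
    exact (TopCat.Presheaf.germ_res_apply _ _ _ _ _).symm
  have hsqX : ∀ a, algebraMap Γ(X, U) (X.presheaf.stalk x) a ∈ IsLocalRing.maximalIdeal _ ^ 2 ↔ a ∈ m ^ 2 := fun a => by
    rw [← IsLocalization.AtPrime.map_eq_maximalIdeal m (X.presheaf.stalk x), ← Ideal.map_pow]
    refine ⟨fun h => ?_, fun h => Ideal.mem_map_of_mem _ h⟩
    obtain ⟨t, ht, hta⟩ := (IsLocalization.algebraMap_mem_map_algebraMap_iff m.primeCompl _ _ _).1 h
    obtain ⟨t', z, hz, htz⟩ := Ideal.IsMaximal.exists_inv hm ht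
    have ha : a ∈ m := ((Ideal.IsPrime.mem_or_mem (hm.isPrime) (Ideal.pow_le_self two_ne_zero hta))).resolve_left ht
    rw [show a = t' * (t * a) + z * a by linear_combination (-a) * htz]
    exact add_mem (Ideal.mul_mem_left _ _ hta) (by rw [pow_two]; exact Ideal.mul_mem_mul hz ha)
  constructor
  · intro hinj b hb hb2
    have hbm : algebraMap Γ(Y, W) (Y.presheaf.stalk (f x)) b ∈ IsLocalRing.maximalIdeal _ :=
      (IsLocalization.AtPrime.to_map_mem_maximal_iff _ n _).2 hb
    have h0 : (IsLocalRing.maximalIdeal _).toCotangent ⟨_, hbm⟩ = 0 := hinj (by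
      rw [map_zero]
      show Ideal.mapCotangent _ _ _ _ _ = _
      rw [Ideal.mapCotangent_toCotangent, Ideal.toCotangent_eq_zero]
      show FixPt.stalkMapAt f x (f x) rfl _ ∈ _
      rw [hst, hsqX]
      exact hb2)
    rw [Ideal.toCotangent_eq_zero] at h0
    change algebraMap Γ(Y, W) (Y.presheaf.stalk (f x)) b ∈ _ at h0
    rw [← IsLocalization.AtPrime.map_eq_maximalIdeal n (Y.presheaf.stalk (f x)), ← Ideal.map_pow] at h0
    obtain ⟨t, ht, hta⟩ := (IsLocalization.algebraMap_mem_map_algebraMap_iff n.primeCompl _ _ _).1 h0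
    obtain ⟨t', z, hz, htz⟩ := Ideal.IsMaximal.exists_inv hn ht
    rw [show b = t' * (t * b) + z * b by linear_combination (-b) * htz]
    exact add_mem (Ideal.mul_mem_left _ _ hta) (by rw [pow_two]; exact Ideal.mul_mem_mul hz hb)
  · intro H
    rw [injective_iff_map_eq_zero]
    intro ξ hξ
    obtain ⟨⟨z, hzm⟩, rfl⟩ := Ideal.toCotangent_surjective _ ξ
    change Ideal.mapCotangent _ _ _ _ _ = _ at hξ
    rw [Ideal.mapCotangent_toCotangent, Ideal.toCotangent_eq_zero] at hξ
    change FixPt.stalkMapAt f x (f x) rfl z ∈ _ at hξ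
    rw [Ideal.toCotangent_eq_zero]
    show z ∈ _
    obtain ⟨⟨b, s⟩, hbs⟩ := IsLocalization.surj n.primeCompl z
    have hb : b ∈ n := by
      rw [← IsLocalization.AtPrime.to_map_mem_maximal_iff (Y.presheaf.stalk (f x)) n, ← hbs]
      exact Ideal.mul_mem_right _ _ hzm
    have hb2 : f.appLE W U e b ∈ m ^ 2 := by
      rw [← hsqX, ← hst, ← hbs, map_mul]
      exact Ideal.mul_mem_right _ _ hξ
    have h1 := Ideal.mem_map_of_mem (algebraMap Γ(Y, W) (Y.presheaf.stalk (f x))) (H b hb hb2)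
    rw [Ideal.map_pow, IsLocalization.AtPrime.map_eq_maximalIdeal n (Y.presheaf.stalk (f x)), ← hbs,
      Ideal.mul_unit_mem_iff_mem _ (IsLocalization.map_units _ s)] at h1
    exact h1

variable [LocallyOfFiniteType qX] [LocallyOfFiniteType qY] [Smooth qX] [IsAlgClosed k]

include hf in
theorem isSmoothAt_iff_injective {W : Y.Opens} (hW : IsAffineOpen W) {U : X.Opens} (hU : IsAffineOpen U)
    (e : U ≤ f ⁻¹ᵁ W) (x : X) (hxU : x ∈ U) (hm : (hU.primeIdealOf ⟨x, hxU⟩).asIdeal.IsMaximal) :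
    (letI := (f.appLE W U e).hom.toAlgebra; Algebra.IsSmoothAt Γ(Y, W) (hU.primeIdealOf ⟨x, hxU⟩).asIdeal) ↔
      Function.Injective (FixPt.cotangentMapAt f x (f.base x) rfl) := by
  letI := (secAlg qX U).hom.toAlgebra
  letI := (secAlg qY W).hom.toAlgebra
  letI := (f.appLE W U e).hom.toAlgebra
  haveI : IsScalarTower k Γ(Y, W) Γ(X, U) :=
    IsScalarTower.of_algebraMap_eq fun c => (congrArg (fun φ : CommRingCat.of k ⟶ Γ(X, U) => φ.hom c) (sec_comp qX qY f hf e)).symm
  haveI := finitePresentation_sec qX hU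
  haveI := finitePresentation_sec qY hW
  haveI := smooth_sec qX hU
  set m := (hU.primeIdealOf ⟨x, hxU⟩).asIdeal
  have hk : Function.Bijective (algebraMap k (Γ(X, U) ⧸ m)) := by
    letI := Ideal.Quotient.field m
    haveI : Module.Finite k (Γ(X, U) ⧸ m) := finite_of_finite_type_of_isJacobsonRing k _
    exact IsAlgClosed.algebraMap_bijective_of_isIntegral
  have hn : (hW.primeIdealOf ⟨f x, e hxU⟩).asIdeal = m.comap (algebraMap Γ(Y, W) Γ(X, U)) := by
    have h1 := congrArg (fun φ : Spec Γ(X, U) ⟶ Y => φ (hU.primeIdealOf ⟨x, hxU⟩))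
      (IsAffineOpen.SpecMap_appLE_fromSpec f hW hU e)
    simp only [Scheme.Hom.comp_apply] at h1
    rw [hU.fromSpec_primeIdealOf ⟨x, hxU⟩] at h1
    exact (congrArg PrimeSpectrum.asIdeal (hW.fromSpec.isOpenEmbedding.injective
      (h1.trans (hW.fromSpec_primeIdealOf ⟨f x, e hxU⟩).symm))).symm
  haveI : Algebra.IsSmoothAt k m :=
    (inferInstance : Algebra.FormallySmooth k (Localization.AtPrime m))
  have hn' : (hW.primeIdealOf ⟨f x, e hxU⟩).asIdeal.IsMaximal := by
    rw [hn]
    haveI : Algebra.IsIntegral Γ(Y, W) (Γ(X, U) ⧸ m) := by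
      letI := Ideal.Quotient.field m
      haveI : Module.Finite k (Γ(X, U) ⧸ m) := finite_of_finite_type_of_isJacobsonRing k _
      exact Algebra.IsIntegral.tower_top k
    letI := Ideal.Quotient.field m
    have h : ((⊥ : Ideal (Γ(X, U) ⧸ m)).comap (algebraMap Γ(Y, W) (Γ(X, U) ⧸ m))).IsMaximal :=
      Ideal.isMaximal_comap_of_isIntegral_of_isMaximal _
    rwa [IsScalarTower.algebraMap_eq Γ(Y, W) Γ(X, U) (Γ(X, U) ⧸ m), ← Ideal.comap_comap, Ideal.Quotient.algebraMap_eq,
      ← RingHom.ker_eq_comap_bot, Ideal.mk_ker] at h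
  rw [isSmoothAt_iff (k := k) Γ(X, U) _ m hn hk, injective_cotangentMapAt_iff f hW hU e x hxU hm hn']
  rfl

include hf in
/-- **The tangent criterion.** -/
theorem smooth_iff : Smooth f ↔ ∀ x : X, IsClosed ({x} : Set ↥X) → Function.Injective (FixPt.cotangentMapAt f x (f.base x) rfl) := by
  haveI : JacobsonSpace X := LocallyOfFiniteType.jacobsonSpace qX
  constructor
  · intro hS x hx
    obtain ⟨W, hW, hxW, -⟩ := exists_isAffineOpen_mem_and_subset (x := f x) (U := ⊤) trivial
    obtain ⟨U, hU, hxU, e⟩ := exists_isAffineOpen_mem_and_subset (x := x) (U := f ⁻¹ᵁ W) hxW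
    have hm : (hU.primeIdealOf ⟨x, hxU⟩).asIdeal.IsMaximal := by
      refine (PrimeSpectrum.isClosed_singleton_iff_isMaximal _).1 ?_
      show hU.primeIdealOf ⟨x, hxU⟩ ∈ closedPoints (PrimeSpectrum Γ(X, U))
      have := (Set.ext_iff.1 hU.fromSpec.isOpenEmbedding.preimage_closedPoints (hU.primeIdealOf ⟨x, hxU⟩)).1
        (show hU.fromSpec (hU.primeIdealOf ⟨x, hxU⟩) ∈ closedPoints X by
          rw [hU.fromSpec_primeIdealOf ⟨x, hxU⟩]; exact hx)
      exact this
    refine (isSmoothAt_iff_injective qX qY f hf hW hU e x hxU hm).1 ?_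
    letI := (f.appLE W U e).hom.toAlgebra
    haveI : Algebra.Smooth Γ(Y, W) Γ(X, U) := f.smooth_appLE hW hU e
    exact (inferInstance : Algebra.FormallySmooth Γ(Y, W) (Localization.AtPrime (hU.primeIdealOf ⟨x, hxU⟩).asIdeal))
  · intro H
    refine ⟨fun {W} hW {U} hU e => ?_⟩
    letI := (secAlg qX U).hom.toAlgebra
    letI := (secAlg qY W).hom.toAlgebra
    letI := (f.appLE W U e).hom.toAlgebra
    haveI : IsScalarTower k Γ(Y, W) Γ(X, U) :=
      IsScalarTower.of_algebraMap_eq fun c => (congrArg (fun φ : CommRingCat.of k ⟶ Γ(X, U) => φ.hom c) (sec_comp qX qY f hf e)).symm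
    haveI := finitePresentation_sec qX hU
    haveI := finitePresentation_sec qY hW
    haveI : Algebra.FinitePresentation Γ(Y, W) Γ(X, U) := Algebra.FinitePresentation.of_restrict_scalars_finitePresentation k _ _
    show Algebra.Smooth Γ(Y, W) Γ(X, U)
    refine ⟨Algebra.smoothLocus_eq_univ_iff.1 (Set.eq_univ_of_forall fun P => ?_), inferInstance⟩
    obtain ⟨M, hM, hPM⟩ := Ideal.exists_le_maximal P.asIdeal P.isPrime.ne_top
    let p : PrimeSpectrum Γ(X, U) := ⟨M, hM.isPrime⟩
    have hxU : hU.fromSpec p ∈ U := by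
      have : hU.fromSpec p ∈ Set.range hU.fromSpec := ⟨p, rfl⟩
      rwa [hU.range_fromSpec] at this
    have hp : hU.primeIdealOf ⟨_, hxU⟩ = p := hU.fromSpec.isOpenEmbedding.injective (hU.fromSpec_primeIdealOf ⟨_, hxU⟩)
    have hclosed : IsClosed ({hU.fromSpec p} : Set ↥X) :=
      (hU.fromSpec.isOpenEmbedding.preimage_closedPoints).ge ((PrimeSpectrum.isClosed_singleton_iff_isMaximal p).2 hM : _)
    have h1 := (isSmoothAt_iff_injective qX qY f hf hW hU e _ hxU (by rw [hp]; exact hM)).2 (H _ hclosed)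
    have h2 : p ∈ Algebra.smoothLocus Γ(Y, W) Γ(X, U) := by rw [← hp]; exact h1
    exact ((PrimeSpectrum.le_iff_specializes P p).1 hPM).mem_open Algebra.isOpen_smoothLocus h2

omit [LocallyOfFiniteType qY] [Smooth qX] [IsAlgClosed k] in
/-- The dimension of a standard smooth chart is the dimension of the variety. -/
theorem eq_dim [IrreducibleSpace X] {Z : Scheme.{u}} (j : Z ⟶ X) [IsOpenImmersion j] [Nonempty Z] (d : ℕ)
    [SmoothOfRelativeDimension d (j ≫ qX)] : topologicalKrullDim X = d := by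
  obtain ⟨z⟩ := ‹Nonempty Z›
  obtain ⟨U, hU, V, hV, hzV, e, hs⟩ :=
    SmoothOfRelativeDimension.exists_isStandardSmoothOfRelativeDimension (n := d) (f := j ≫ qX) z
  have hO : IsField Γ(Spec (CommRingCat.of k), ⊤) :=
    (Scheme.ΓSpecIso (CommRingCat.of k)).commRingCatIsoToRingEquiv.toMulEquiv.isField (Field.toIsField k)
  haveI : Subsingleton (Spec (CommRingCat.of k)) := inferInstanceAs (Subsingleton (PrimeSpectrum k))
  have hUtop : U = ⊤ := top_le_iff.1 fun p _ => by
    rw [Subsingleton.elim p ((j ≫ qX) z)]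
    exact e hzV
  subst hUtop
  letI := hO.toField
  letI : Algebra Γ(Spec (CommRingCat.of k), ⊤) Γ(Z, V) := ((j ≫ qX).appLE ⊤ V e).hom.toAlgebra
  haveI : Algebra.IsStandardSmoothOfRelativeDimension d Γ(Spec (CommRingCat.of k), ⊤) Γ(Z, V) := hs
  haveI : Nonempty (V : Scheme.{u}) := ⟨⟨_, hzV⟩⟩
  haveI : Nontrivial Γ(Z, V) := Scheme.component_nontrivial _ V
  have hdim := SmoothDim.ringKrullDim_eq Γ(Spec (CommRingCat.of k), ⊤) Γ(Z, V) d
  rw [← PrimeSpectrum.topologicalKrullDim_eq_ringKrullDim] at hdim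
  let i := hV.fromSpec ≫ j
  have h1 : topologicalKrullDim (i.opensRange : Set X) = d := by
    rw [← hdim]
    exact (IsHomeomorph.topologicalKrullDim_eq _ (i.isOpenEmbedding.isEmbedding.toHomeomorph).isHomeomorph).symm
  rw [← h1, VarDim.topologicalKrullDim_eq_deg_genericPoint qX, VarDim.topologicalKrullDim_opens_eq_iSup_deg qX]
  have hne : genericPoint X ∈ i.opensRange := by
    refine ((genericPoint_spec X).mem_open_set_iff i.opensRange.isOpen).2 ⟨i (hV.primeIdealOf ⟨z, hzV⟩), trivial, ?_⟩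
    exact ⟨_, rfl⟩
  exact le_antisymm (le_iSup_of_le ⟨_, hne⟩ le_rfl) (iSup_le fun w => by
    exact_mod_cast VarDim.deg_le_of_specializes qX (genericPoint_specializes w.1))

omit [LocallyOfFiniteType qY] [IsAlgClosed k] in
theorem smoothOfRelativeDimension_dim [IrreducibleSpace X] (d : ℕ) (hd : topologicalKrullDim X = d) :
    SmoothOfRelativeDimension d qX := by
  refine ⟨fun x => ?_⟩
  obtain ⟨U, hU, V, hV, hxV, e, hs⟩ := Smooth.exists_isStandardSmooth qX x
  refine ⟨U, hU, V, hV, hxV, e, ?_⟩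
  algebraize [(qX.appLE U V e).hom]
  haveI : Algebra.IsStandardSmooth Γ(Spec (CommRingCat.of k), U) Γ(X, V) := hs
  obtain ⟨m, hm⟩ : ∃ m, Algebra.IsStandardSmoothOfRelativeDimension m Γ(Spec (CommRingCat.of k), U) Γ(X, V) := by
    obtain ⟨ι, σ, _, _, ⟨P⟩⟩ := hs.out
    exact ⟨P.dimension, ι, σ, _, ‹_›, ⟨P, rfl⟩⟩
  haveI : SmoothOfRelativeDimension m (V.ι ≫ qX) := by
    rw [← Scheme.Hom.resLE_comp_ι qX e]
    haveI : IsAffine (V : Scheme.{u}) := hV
    haveI : IsAffine (U : Scheme.{u}) := hU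
    haveI : SmoothOfRelativeDimension m (qX.resLE U V e) := by
      rw [HasRingHomProperty.iff_of_isAffine (P := @SmoothOfRelativeDimension m)]
      refine RingHom.locally_of RingHom.isStandardSmoothOfRelativeDimension_respectsIso _ ?_
      exact (RingHom.isStandardSmoothOfRelativeDimension_respectsIso.arrow_mk_iso_iff (arrowResLEAppIso qX U V e)).2 hm
    simpa using (inferInstance : SmoothOfRelativeDimension (m + 0) (qX.resLE U V e ≫ U.ι))
  haveI : Nonempty (V : Scheme.{u}) := ⟨⟨x, hxV⟩⟩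
  have h2 := eq_dim qX V.ι m
  rw [hd] at h2
  obtain rfl : d = m := by exact_mod_cast h2
  exact hm

omit [IsAlgClosed k] in
include hf in
/-- For smooth varieties a smooth morphism has the expected relative dimension. -/
theorem smoothOfRelativeDimension_iff [IrreducibleSpace X] [IrreducibleSpace Y] [Smooth qY] (n dY : ℕ)
    (hY : topologicalKrullDim Y = dY) (hX : topologicalKrullDim X = ((dY + n : ℕ) : WithBot ℕ∞)) :
    SmoothOfRelativeDimension n f ↔ Smooth f := by
  refine ⟨fun _ => SmoothOfRelativeDimension.smooth n f, fun _ => ⟨fun x => ?_⟩⟩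
  haveI := smoothOfRelativeDimension_dim qY dY hY
  obtain ⟨U, hU, V, hV, hxV, e, hs⟩ := Smooth.exists_isStandardSmooth f x
  refine ⟨U, hU, V, hV, hxV, e, ?_⟩
  obtain ⟨m, hm⟩ : ∃ m, (f.appLE U V e).hom.IsStandardSmoothOfRelativeDimension m := by
    algebraize [(f.appLE U V e).hom]
    haveI : Algebra.IsStandardSmooth Γ(Y, U) Γ(X, V) := hs
    obtain ⟨ι, σ, _, _, ⟨P⟩⟩ := hs.out
    exact ⟨P.dimension, ι, σ, _, ‹_›, ⟨P, rfl⟩⟩
  haveI : IsAffine (V : Scheme.{u}) := hV
  haveI : IsAffine (U : Scheme.{u}) := hU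
  haveI : SmoothOfRelativeDimension m (f.resLE U V e) := by
    rw [HasRingHomProperty.iff_of_isAffine (P := @SmoothOfRelativeDimension m)]
    refine RingHom.locally_of RingHom.isStandardSmoothOfRelativeDimension_respectsIso _ ?_
    exact (RingHom.isStandardSmoothOfRelativeDimension_respectsIso.arrow_mk_iso_iff (arrowResLEAppIso f U V e)).2 hm
  haveI : SmoothOfRelativeDimension (m + (0 + dY)) (V.ι ≫ qX) := by
    rw [← hf, ← Category.assoc, ← Scheme.Hom.resLE_comp_ι f e, Category.assoc]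
    infer_instance
  haveI : Nonempty (V : Scheme.{u}) := ⟨⟨x, hxV⟩⟩
  have h2 := eq_dim qX V.ι (m + (0 + dY))
  rw [hX] at h2
  have h3 : dY + n = m + (0 + dY) := by exact_mod_cast h2
  obtain rfl : n = m := by omega
  exact hm

end Groth.Agent.SmoothCrit
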