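import Groth.Agent.VarDim.Basic
import Mathlib.RingTheory.Kaehler.Basic
import Mathlib.RingTheory.Ideal.Cotangent
import Mathlib.RingTheory.Ideal.KrullsHeightTheorem
import Mathlib.RingTheory.Localization.AtPrime.Basic
import Mathlib.RingTheory.Nakayama
import Mathlib.RingTheory.Spectrum.Prime.RingHom

/-! The differentials relative to a map contracting a subvariety are at least as big as the subvariety. -/

open Order

universe u

namespace Groth.Agent.SmoothCrit

variable {k : Type u} [Field k]

/-- The cotangent space at a rational point has at least the dimension of the variety. -/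
theorem le_finrank_cotangent {D : Type u} [CommRing D] [IsDomain D] [Algebra k D] [Algebra.FiniteType k D]
    (m : Ideal D) [m.IsMaximal] (hk : Function.Surjective (algebraMap k (D ⧸ m))) (r : ℕ) (hdim : ringKrullDim D = r) :
    r ≤ Module.finrank k m.Cotangent := by
  classical
  haveI : IsNoetherianRing D := Algebra.FiniteType.isNoetherianRing k D
  -- scalars act through `k`
  have hscal : ∀ (a : D) (v : m.Cotangent), ∃ c : k, a • v = c • v := fun a v => by
    obtain ⟨c, hc⟩ := hk (Ideal.Quotient.mk m a)
    refine ⟨c, ?_⟩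
    rw [← algebraMap_smul D c v, ← sub_eq_zero, ← sub_smul]
    obtain ⟨w, rfl⟩ := Ideal.toCotangent_surjective _ v
    rw [← map_smul, Ideal.toCotangent_eq_zero, pow_two]
    refine Ideal.mul_mem_mul ?_ w.2
    rw [← Ideal.Quotient.eq_zero_iff_mem, map_sub, Ideal.Quotient.mk_algebraMap, hc, sub_self]
  haveI : Module.Finite D m := Module.Finite.iff_fg.2 (IsNoetherian.noetherian _)
  obtain ⟨s, hs⟩ := (Module.Finite.of_surjective m.toCotangent (Ideal.toCotangent_surjective m)).fg_top
  have hspan : Submodule.span k (s : Set m.Cotangent) = ⊤ := by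
    refine eq_top_iff.2 fun v hv' => ?_
    clear hv'
    have hv : v ∈ Submodule.span D (s : Set m.Cotangent) := hs ▸ Submodule.mem_top
    induction hv using Submodule.span_induction with
    | mem x hx => exact Submodule.subset_span hx
    | zero => exact zero_mem _
    | add x y _ _ hx hy => exact add_mem hx hy
    | smul a x _ hx =>
      obtain ⟨c, hc⟩ := hscal a x
      rw [hc]
      exact Submodule.smul_mem _ c hx
  haveI : Module.Finite k m.Cotangent := ⟨⟨s, hspan⟩⟩
  let b := Module.finBasis k m.Cotangent
  choose e he using fun i => Ideal.toCotangent_surjective m (b i)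
  -- the lifts generate the maximal ideal of the local ring
  let L := Localization.AtPrime m
  let J : Ideal L := Ideal.span (Set.range fun i => algebraMap D L (e i : D))
  have hgen : m ≤ Ideal.span (Set.range fun i => (e i : D)) ⊔ m ^ 2 := fun x hx => by
    have hsum := b.sum_repr (m.toCotangent ⟨x, hx⟩)
    have h2 : m.toCotangent ⟨x, hx⟩ = m.toCotangent (∑ i, algebraMap k D (b.repr (m.toCotangent ⟨x, hx⟩) i) • e i) := by
      rw [map_sum]
      refine hsum.symm.trans (Finset.sum_congr rfl fun i _ => ?_)
      rw [map_smul, he, algebraMap_smul]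
    rw [Ideal.toCotangent_eq] at h2
    have h3 : ((∑ i, algebraMap k D (b.repr (m.toCotangent ⟨x, hx⟩) i) • e i : m) : D) ∈
        Ideal.span (Set.range fun i => (e i : D)) := by
      rw [AddSubmonoidClass.coe_finsetSum]
      exact Ideal.sum_mem _ fun i _ => Ideal.mul_mem_left _ _ (Ideal.subset_span ⟨i, rfl⟩)
    rw [show x = ((∑ i, algebraMap k D (b.repr (m.toCotangent ⟨x, hx⟩) i) • e i : m) : D) +
      (x - ((∑ i, algebraMap k D (b.repr (m.toCotangent ⟨x, hx⟩) i) • e i : m) : D)) by ring]
    exact Submodule.add_mem_sup h3 h2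
  have hJ : IsLocalRing.maximalIdeal L ≤ J := by
    refine Submodule.le_of_le_smul_of_le_jacobson_bot (IsNoetherian.noetherian _)
      (IsLocalRing.maximalIdeal_le_jacobson _) ?_
    rw [smul_eq_mul, ← pow_two, ← Localization.AtPrime.map_eq_maximalIdeal, ← Ideal.map_pow]
    refine (Ideal.map_mono hgen).trans ?_
    rw [Ideal.map_sup, Ideal.map_span]
    refine sup_le_sup_right (Ideal.span_mono ?_) _
    rintro _ ⟨_, ⟨i, rfl⟩, rfl⟩
    exact ⟨i, rfl⟩
  have hJeq : IsLocalRing.maximalIdeal L = J := le_antisymm hJ (Ideal.span_le.2 (by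
    rintro _ ⟨i, rfl⟩
    exact (IsLocalization.AtPrime.to_map_mem_maximal_iff L m _).2 (e i).2))
  have hle : (IsLocalRing.maximalIdeal L).spanFinrank ≤ Module.finrank k m.Cotangent := by
    rw [hJeq]
    refine le_trans (Submodule.spanFinrank_span_le_ncard_of_finite (Set.finite_range _)) ?_
    rw [← Set.image_univ]
    refine (Set.ncard_image_le Set.finite_univ).trans ?_
    simp
  have hht : ringKrullDim L = r := by
    rw [IsLocalization.AtPrime.ringKrullDim_eq_height m L]
    let M : PrimeSpectrum D := ⟨m, inferInstance⟩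
    have h1 := VarDim.height_add_coheight_eq k r D hdim M
    have hc : coheight M = 0 := coheight_eq_zero.2 fun Q hQ =>
      (PrimeSpectrum.ext ((‹m.IsMaximal›).eq_of_le Q.isPrime.ne_top hQ)).ge
    rw [hc, add_zero, ← M.height_eq_orderHeight] at h1
    rw [show m.height = (r : ℕ∞) from h1]
    rfl
  have h4 := ringKrullDim_le_spanFinrank_maximalIdeal L
  rw [hht] at h4
  exact (Nat.cast_le.1 (WithBot.coe_le_coe.1 h4)).trans hle

end Groth.Agent.SmoothCrit
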