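import Groth.Agent.S2788
import Mathlib.RingTheory.Smooth.Local
import Mathlib.RingTheory.LocalRing.Module
import Mathlib.RingTheory.Localization.AtPrime.Basic
import Mathlib.RingTheory.Ideal.Cotangent
import Mathlib.RingTheory.Kaehler.Basic

/-! Smoothness of a map of smooth algebras at a rational point is injectivity of the cotangent map. -/

open TensorProduct KaehlerDifferential

universe u

namespace Groth.Agent.SmoothCrit

variable {k B : Type u} [Field k] [CommRing B] [Algebra k B]

/-- The differentials at a rational point detect the cotangent space. -/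
theorem mem_sq_of_tmul_eq_zero (n : Ideal B) (hk : Function.Bijective (algebraMap k (B ⧸ n))) {b : B} (hb : b ∈ n)
    (h : (1 : B ⧸ n) ⊗ₜ[B] D k B b = 0) : b ∈ n ^ 2 := by
  let c : B → k := fun b => (Equiv.ofBijective _ hk).symm (Ideal.Quotient.mk n b)
  have hc : ∀ b, algebraMap k (B ⧸ n) (c b) = Ideal.Quotient.mk n b := fun b => (Equiv.ofBijective _ hk).apply_symm_apply _
  have hmem : ∀ b, b - algebraMap k B (c b) ∈ n := fun b => by
    rw [← Ideal.Quotient.eq_zero_iff_mem, map_sub, Ideal.Quotient.mk_algebraMap, hc, sub_self]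
  have hadd : ∀ a b, c (a + b) = c a + c b := fun a b => hk.1 (by rw [map_add, hc, hc, hc, map_add])
  have hsmul : ∀ (r : k) a, c (r • a) = r * c a := fun r a => hk.1 (by
    rw [map_mul, hc, hc, Algebra.smul_def, map_mul, Ideal.Quotient.mk_algebraMap])
  let d : Derivation k B n.Cotangent := Derivation.mk'
    { toFun := fun b => n.toCotangent ⟨_, hmem b⟩
      map_add' := fun a b => by
        rw [← map_add]
        exact congrArg _ (Subtype.ext (by
          show a + b - algebraMap k B (c (a + b)) = (a - algebraMap k B (c a)) + (b - algebraMap k B (c b))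
          rw [hadd, map_add]; ring))
      map_smul' := fun r a => by
        rw [RingHom.id_apply, ← algebraMap_smul B r (n.toCotangent _), ← map_smul]
        exact congrArg _ (Subtype.ext (by
          show r • a - algebraMap k B (c (r • a)) = algebraMap k B r * (a - algebraMap k B (c a))
          rw [hsmul, Algebra.smul_def, map_mul, mul_sub])) }
    fun a b => by
      have hmul : c (a * b) = c a * c b := hk.1 (by rw [map_mul, hc, hc, hc, map_mul])
      show n.toCotangent ⟨_, hmem (a * b)⟩ = a • n.toCotangent ⟨_, hmem b⟩ + b • n.toCotangent ⟨_, hmem a⟩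
      rw [← map_smul, ← map_smul, ← map_add, Ideal.toCotangent_eq]
      have h2 := Ideal.mul_mem_mul (hmem a) (hmem b)
      rw [← pow_two] at h2
      show a * b - algebraMap k B (c (a * b)) - (a * (b - algebraMap k B (c b)) + b * (a - algebraMap k B (c a))) ∈ n ^ 2
      rw [hmul, map_mul]
      convert neg_mem h2 using 1
      ring
  have h3 := congrArg (d.liftKaehlerDifferential.liftBaseChange (B ⧸ n)) h
  rw [LinearMap.liftBaseChange_tmul, one_smul, Derivation.liftKaehlerDifferential_comp_D, map_zero] at h3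
  have h4 : n.toCotangent ⟨_, hmem b⟩ = 0 := h3
  rw [Ideal.toCotangent_eq_zero] at h4
  have hc0 : c b = 0 := hk.1 (by rw [hc, map_zero, Ideal.Quotient.eq_zero_iff_mem.2 hb])
  simpa [hc0] using h4

/-- **Smoothness at a rational point via cotangent spaces.** -/
theorem isSmoothAt_iff (C : Type u) [CommRing C] [Algebra k C] [Algebra B C] [IsScalarTower k B C]
    [Algebra.FinitePresentation k B] [Algebra.FinitePresentation k C] (n : Ideal B) (m : Ideal C) [m.IsMaximal]
    (hn : n = m.comap (algebraMap B C)) (hk : Function.Bijective (algebraMap k (C ⧸ m)))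
    [Algebra.IsSmoothAt k m] :
    Algebra.IsSmoothAt B m ↔ ∀ b ∈ n, algebraMap B C b ∈ m ^ 2 → b ∈ n ^ 2 := by
  let T := Localization.AtPrime m
  haveI : Algebra.FormallySmooth k T := ‹Algebra.IsSmoothAt k m›
  haveI : Algebra.EssFiniteType k T := Algebra.EssFiniteType.comp k C T
  haveI : Module.Free T Ω[T⁄k] := Module.free_of_flat_of_isLocalRing
  let l := mapBaseChange k B T
  have h1 : Algebra.IsSmoothAt B m ↔ Function.Injective (l.lTensor (IsLocalRing.ResidueField T)) := by
    rw [← IsLocalRing.split_injective_iff_lTensor_residueField_injective]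
    exact ⟨fun h => ((S2788.result k B C m).1 ⟨h, ‹_›⟩).2, fun h => ((S2788.result k B C m).2 ⟨‹_›, h⟩).1⟩
  have hkn : Function.Bijective (algebraMap k (B ⧸ n)) := by
    let ι : B ⧸ n →ₐ[k] C ⧸ m := Ideal.quotientMapₐ m (IsScalarTower.toAlgHom k B C) hn.le
    have hι : Function.Injective ι := by
      refine (injective_iff_map_eq_zero ι).2 fun a ha => ?_
      obtain ⟨a, rfl⟩ := Ideal.Quotient.mk_surjective a
      refine Ideal.Quotient.eq_zero_iff_mem.2 ?_
      rw [hn]
      exact (Ideal.Quotient.eq_zero_iff_mem (I := m)).1 ha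
    refine ⟨fun a b h => hk.1 (by rw [← ι.commutes a, h, ι.commutes]), fun z => ?_⟩
    obtain ⟨r, hr⟩ := hk.2 (ι z)
    exact ⟨r, hι (by rw [ι.commutes, hr])⟩
  let e : C ⧸ m ≃+* IsLocalRing.ResidueField T := IsLocalization.AtPrime.equivQuotMaximalIdeal m T
  have hkT : Function.Bijective (algebraMap k (IsLocalRing.ResidueField T)) := by
    have : (algebraMap k (IsLocalRing.ResidueField T) : k → _) = e ∘ algebraMap k (C ⧸ m) := funext fun r => by
      show IsLocalRing.residue T (algebraMap k T r) = _
      rw [IsScalarTower.algebraMap_apply k C T]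
      rfl
    rw [this]
    exact e.bijective.comp hk
  let κ := IsLocalRing.ResidueField T
  let Φ : B →ₗ[k] κ ⊗[T] (T ⊗[B] Ω[B⁄k]) :=
    { toFun := fun b => (1 : κ) ⊗ₜ[T] ((1 : T) ⊗ₜ[B] D k B b)
      map_add' := fun a b => by rw [map_add, TensorProduct.tmul_add, TensorProduct.tmul_add]
      map_smul' := fun r a => by rw [RingHom.id_apply, Derivation.map_smul, TensorProduct.tmul_smul, TensorProduct.tmul_smul] }
  have hsmulκ : ∀ (t : κ) (b : B), ∃ b', t • Φ b = Φ b' := fun t b => by
    obtain ⟨r, rfl⟩ := hkT.2 t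
    exact ⟨r • b, by rw [map_smul, algebraMap_smul]⟩
  have hsur : ∀ z, ∃ b ∈ n, Φ b = z := by
    have hall : ∀ z, ∃ b, Φ b = z := fun z => by
      induction z using TensorProduct.induction_on with
      | zero => exact ⟨0, map_zero Φ⟩
      | add x y hx hy => obtain ⟨a, rfl⟩ := hx; obtain ⟨b, rfl⟩ := hy; exact ⟨a + b, map_add Φ a b⟩
      | tmul t w =>
        induction w using TensorProduct.induction_on generalizing t with
        | zero => exact ⟨0, by rw [map_zero, TensorProduct.tmul_zero]⟩
        | add x y hx hy =>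
          obtain ⟨a, ha⟩ := hx t
          obtain ⟨b, hb⟩ := hy t
          exact ⟨a + b, by rw [map_add, ha, hb, TensorProduct.tmul_add]⟩
        | tmul s ω =>
          have hω : ω ∈ Submodule.span B (Set.range (D k B)) := by
            rw [KaehlerDifferential.span_range_derivation]; trivial
          induction hω using Submodule.span_induction generalizing t s with
          | mem _ h =>
            obtain ⟨b, rfl⟩ := h
            obtain ⟨b', hb'⟩ := hsmulκ (s • t) b
            refine ⟨b', hb'.symm.trans ?_⟩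
            show (s • t) • ((1 : κ) ⊗ₜ[T] ((1 : T) ⊗ₜ[B] D k B b)) = _
            rw [TensorProduct.smul_tmul', smul_eq_mul, mul_one, TensorProduct.smul_tmul, TensorProduct.smul_tmul',
              smul_eq_mul, mul_one]
          | zero => exact ⟨0, by rw [map_zero, TensorProduct.tmul_zero, TensorProduct.tmul_zero]⟩
          | add x y _ _ hx hy =>
            obtain ⟨a, ha⟩ := hx s t
            obtain ⟨b, hb⟩ := hy s t
            exact ⟨a + b, by rw [map_add, ha, hb, TensorProduct.tmul_add, TensorProduct.tmul_add]⟩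
          | smul c x _ hx =>
            obtain ⟨a, ha⟩ := hx (c • s) t
            exact ⟨a, by rw [ha, TensorProduct.smul_tmul]⟩
    intro z
    obtain ⟨b, rfl⟩ := hall z
    obtain ⟨r, hr⟩ := hkn.2 (Ideal.Quotient.mk n b)
    refine ⟨b - algebraMap k B r, ?_, ?_⟩
    · rw [← Ideal.Quotient.eq_zero_iff_mem, map_sub, Ideal.Quotient.mk_algebraMap, hr, sub_self]
    · show (1 : κ) ⊗ₜ[T] ((1 : T) ⊗ₜ[B] D k B (b - algebraMap k B r)) = _
      rw [map_sub, Derivation.map_algebraMap, sub_zero]
      rfl
  have hlΦ : ∀ b, l.lTensor κ (Φ b) = (1 : κ) ⊗ₜ[T] D k T (algebraMap C T (algebraMap B C b)) := fun b => by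
    show (1 : κ) ⊗ₜ[T] l ((1 : T) ⊗ₜ[B] D k B b) = _
    rw [mapBaseChange_tmul, one_smul, map_D, IsScalarTower.algebraMap_apply B C T]
  have hsqC : ∀ c ∈ m ^ 2, algebraMap C T c ∈ IsLocalRing.maximalIdeal T ^ 2 := fun c hc => by
    rw [← Localization.AtPrime.map_eq_maximalIdeal, ← Ideal.map_pow]
    exact Ideal.mem_map_of_mem _ hc
  have hvan : ∀ z ∈ IsLocalRing.maximalIdeal T ^ 2, (1 : κ) ⊗ₜ[T] D k T z = 0 := fun z hz => by
    rw [pow_two] at hz
    refine Submodule.mul_induction_on hz (fun x hx y hy => ?_) fun x y hx hy => by rw [map_add, TensorProduct.tmul_add, hx, hy, add_zero]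
    have h0 : ∀ x ∈ IsLocalRing.maximalIdeal T, x • (1 : κ) = 0 := fun x hx => by
      rw [← Algebra.algebraMap_eq_smul_one]
      exact Ideal.Quotient.eq_zero_iff_mem.2 hx
    rw [Derivation.leibniz, TensorProduct.tmul_add, ← TensorProduct.smul_tmul, ← TensorProduct.smul_tmul,
      h0 x hx, h0 y hy, TensorProduct.zero_tmul, TensorProduct.zero_tmul, add_zero]
  have hker : ∀ b ∈ n ^ 2, Φ b = 0 := fun b hb => by
    rw [pow_two] at hb
    refine Submodule.mul_induction_on hb (fun x hx y hy => ?_) fun x y hx hy => by rw [map_add, hx, hy, add_zero]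
    have h0 : ∀ x ∈ n, (algebraMap B T x) • (1 : κ) = 0 := fun x hx => by
      rw [← Algebra.algebraMap_eq_smul_one, IsScalarTower.algebraMap_apply B C T]
      exact Ideal.Quotient.eq_zero_iff_mem.2 ((IsLocalization.AtPrime.to_map_mem_maximal_iff T m _).2 (hn.le hx : _))
    show (1 : κ) ⊗ₜ[T] ((1 : T) ⊗ₜ[B] D k B (x * y)) = 0
    rw [Derivation.leibniz, TensorProduct.tmul_add, TensorProduct.tmul_smul, TensorProduct.tmul_smul,
      ← algebraMap_smul T x, ← algebraMap_smul T y, TensorProduct.tmul_add, ← TensorProduct.smul_tmul,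
      ← TensorProduct.smul_tmul, h0 x hx, h0 y hy, TensorProduct.zero_tmul, TensorProduct.zero_tmul, add_zero]
  have hinj : ∀ b ∈ n, Φ b = 0 → b ∈ n ^ 2 := fun b hb h0 => by
    refine mem_sq_of_tmul_eq_zero n hkn hb ?_
    have h5 := congrArg (AlgebraTensorModule.cancelBaseChange B T κ κ Ω[B⁄k]) h0
    change AlgebraTensorModule.cancelBaseChange B T κ κ Ω[B⁄k] ((1 : κ) ⊗ₜ[T] ((1 : T) ⊗ₜ[B] D k B b)) = _ at h5
    rw [AlgebraTensorModule.cancelBaseChange_tmul, one_smul, map_zero] at h5
    let j : (B ⧸ n) →ₗ[B] κ := n.liftQ (Algebra.linearMap B κ) fun x hx => by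
      show algebraMap B κ x = 0
      rw [IsScalarTower.algebraMap_apply B T κ, IsScalarTower.algebraMap_apply B C T]
      exact Ideal.Quotient.eq_zero_iff_mem.2 ((IsLocalization.AtPrime.to_map_mem_maximal_iff T m _).2 (hn.le hx : _))
    have hj : Function.Bijective j := by
      have h6 : (algebraMap k κ : k → κ) = j ∘ algebraMap k (B ⧸ n) := funext fun r => by
        show _ = algebraMap B κ (algebraMap k B r)
        exact IsScalarTower.algebraMap_apply k B κ r
      constructor
      · intro a b hab
        obtain ⟨r, rfl⟩ := hkn.2 a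
        obtain ⟨r', rfl⟩ := hkn.2 b
        rw [hkT.1 ((congrFun h6 r).trans (hab.trans (congrFun h6 r').symm))]
      · intro z
        obtain ⟨r, rfl⟩ := hkT.2 z
        exact ⟨_, (congrFun h6 r).symm⟩
    have h7 : (LinearEquiv.ofBijective j hj).rTensor Ω[B⁄k] ((1 : B ⧸ n) ⊗ₜ[B] D k B b) = 0 := by
      rw [LinearEquiv.rTensor_tmul]
      show j (Submodule.Quotient.mk (1 : B)) ⊗ₜ[B] D k B b = 0
      rw [show j (Submodule.Quotient.mk (1 : B)) = algebraMap B κ 1 from rfl, map_one]
      exact h5
    exact (LinearEquiv.map_eq_zero_iff _).1 h7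
  rw [h1, injective_iff_map_eq_zero]
  constructor
  · intro H b hb hb2
    refine hinj b hb (H _ ?_)
    rw [hlΦ]
    exact hvan _ (hsqC _ hb2)
  · intro H z hz
    obtain ⟨b, hb, rfl⟩ := hsur z
    refine hker b (H b hb ?_)
    rw [hlΦ] at hz
    have hmT : algebraMap C T (algebraMap B C b) ∈ IsLocalRing.maximalIdeal T :=
      (IsLocalization.AtPrime.to_map_mem_maximal_iff T m _).2 (hn.le hb : _)
    have h8 := mem_sq_of_tmul_eq_zero (IsLocalRing.maximalIdeal T) hkT hmT hz
    rw [← Localization.AtPrime.map_eq_maximalIdeal, ← Ideal.map_pow,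
      IsLocalization.algebraMap_mem_map_algebraMap_iff m.primeCompl T] at h8
    obtain ⟨t, ht, htc⟩ := h8
    obtain ⟨t', z', hz', htz⟩ := Ideal.IsMaximal.exists_inv ‹m.IsMaximal› ht
    rw [show algebraMap B C b = t' * (t * algebraMap B C b) + z' * algebraMap B C b by
      linear_combination (-algebraMap B C b) * htz]
    exact add_mem (Ideal.mul_mem_left _ _ htc) (by rw [pow_two]; exact Ideal.mul_mem_mul hz' (hn.le hb : _))

end Groth.Agent.SmoothCrit
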